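import Groth.Prelude.Def_BlowUp2
import Mathlib.RingTheory.Localization.Away.Basic

/-! Elements of the affine blowup algebra `A[I/π]` are the fractions `c / π ^ n` with `c ∈ I ^ n`. -/

set_option autoImplicit false

universe u

namespace Groth.Agent.Blow38

variable {A : Type u} [CommRing A] {I : Ideal A} {π : A}

theorem unit_pow (π : A) (n : ℕ) : IsUnit (algebraMap A (Localization.Away π) (π ^ n)) :=
  IsLocalization.map_units (Localization.Away π) (⟨π ^ n, n, rfl⟩ : Submonoid.powers π)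

theorem exists_pow_mul (hπ : π ∈ I) (x : BlowUp.affineAlgebra A I π) :
    ∃ n, ∃ c ∈ I ^ n, (x : Localization.Away π) * algebraMap A _ (π ^ n) = algebraMap A _ c := by
  obtain ⟨x, hx⟩ := x
  induction hx using Algebra.adjoin_induction with
  | mem q hq =>
    obtain ⟨y, hy, rfl⟩ := hq
    exact ⟨1, y, by rwa [pow_one], by
      rw [pow_one]; exact IsLocalization.mk'_spec _ y ⟨π, Submonoid.mem_powers π⟩⟩
  | algebraMap r => exact ⟨0, r, by simp, by simp⟩
  | add p q _ _ hp hq =>
    obtain ⟨n, c, hc, h⟩ := hp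
    obtain ⟨m, d, hd, h'⟩ := hq
    refine ⟨n + m, c * π ^ m + π ^ n * d, ?_, ?_⟩
    · rw [pow_add]
      exact add_mem (Ideal.mul_mem_mul hc (Ideal.pow_mem_pow hπ m)) (Ideal.mul_mem_mul (Ideal.pow_mem_pow hπ n) hd)
    · simp only [map_add, map_mul, ← h, ← h', pow_add]
      ring
  | mul p q _ _ hp hq =>
    obtain ⟨n, c, hc, h⟩ := hp
    obtain ⟨m, d, hd, h'⟩ := hq
    refine ⟨n + m, c * d, ?_, ?_⟩
    · rw [pow_add]; exact Ideal.mul_mem_mul hc hd
    · simp only [map_mul, ← h, ← h', pow_add]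
      ring

theorem exists_frac : ∀ (n : ℕ) {c : A}, c ∈ I ^ n →
    ∃ y : BlowUp.affineAlgebra A I π, (y : Localization.Away π) * algebraMap A _ (π ^ n) = algebraMap A _ c := by
  intro n
  induction n with
  | zero => exact fun {c} _ => ⟨algebraMap A _ c, by simp⟩
  | succ n ih =>
    intro c hc
    rw [pow_succ] at hc
    induction hc using Submodule.mul_induction_on' with
    | mem_mul_mem p hp q hq =>
      obtain ⟨y, hy⟩ := ih hp
      refine ⟨y * ⟨IsLocalization.mk' (Localization.Away π) q ⟨π, Submonoid.mem_powers π⟩,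
        Algebra.subset_adjoin ⟨q, hq, rfl⟩⟩, ?_⟩
      rw [MulMemClass.coe_mul, pow_succ, map_mul, map_mul, mul_mul_mul_comm, hy,
        IsLocalization.mk'_spec _ q ⟨π, Submonoid.mem_powers π⟩]
    | add x _ y _ hx hy =>
      obtain ⟨a, ha⟩ := hx
      obtain ⟨b, hb⟩ := hy
      exact ⟨a + b, by rw [AddMemClass.coe_add, add_mul, ha, hb, map_add]⟩

theorem eq_of_mul_pow {n : ℕ} {x y : Localization.Away π}
    (h : x * algebraMap A _ (π ^ n) = y * algebraMap A _ (π ^ n)) : x = y :=
  (unit_pow π n).mul_left_inj.1 h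

end Groth.Agent.Blow38
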